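import Cfsg.Agent.H316.U6Model
import Cfsg.Agent.H157.Ab.StmtX3
import Cfsg.Agent.S1092
import Cfsg.Agent.S1093

/-!
# Abelian `r'`-subgroups of the exceptional groups: the instances of the torus bound `X3` (helper316, S2501/S2502)

* `sbch` : `SBCh D l |W|` for the untwisted exceptional types; `sb_G2`, `sb_F4`, `sb_E6`, `sb_E7`, `sb_E8`;
* `sb_twE6`, `sb_twD4`.
-/

set_option autoImplicit false
set_option linter.unusedSectionVars false

namespace Cfsg.Agent.H316.Ab

open CoxeterSystem Cfsg Cfsg.Lie Cfsg.Lie.ChevalleyDatum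
open Cfsg.Agent.Nodes.RGDChev Cfsg.Agent.H316.U6 Cfsg.Agent.H157.Ab Cfsg.Agent.H469.Exc
open Cfsg.Agent.BpExc.TorCent

/-- `X3` for a group with the data `MData` -/
theorem sb_of_mdata (h : X3) {D : ChevalleyDatum} {l : ℕ} {M : CoxeterMatrix (Fin l)} {hp : IsType D l M}
    {r q : ℕ} [Fact r.Prime] {K₀ : Type} [Group K₀] [Finite K₀] (m : MData hp r q K₀) {w : ℕ}
    (hw : Nat.card M.Group = w) : SB r K₀ (cop r w * (q + 1) ^ l) := by
  have h1 := h D l M hp (KK r) r (locFin r) K₀ m.ι m.inj m.e m.σ m.g m.he m.frob m.fr m.fix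
  rw [m.hq, hw] at h1
  exact h1

theorem sbch (h : X3) {D : ChevalleyDatum} {l : ℕ} {M : CoxeterMatrix (Fin l)} (hp : IsType D l M)
    (hB2 : D ≠ chevB2) (hD4 : D ≠ chevD4) {w : ℕ} (hw : Nat.card M.Group = w) : SBCh D l w := by
  intro F _ _ p _ _
  obtain ⟨m, -⟩ := mdata_untw (r := p) hp hB2 hD4 F
  exact sb_of_mdata h m hw

theorem ne_of_nroots {D D' : ChevalleyDatum} (h : D.nroots ≠ D'.nroots) : D ≠ D' := fun e => h (e ▸ rfl)

theorem isTypeG2 : IsType chevG2 2 CoxeterMatrix.G₂ := by simp [IsType, typeList]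

theorem isTypeF4 : IsType chevF4 4 CoxeterMatrix.F₄ := by simp [IsType, typeList]

theorem isTypeE6 : IsType chevE6 6 CoxeterMatrix.E₆ := by simp [IsType, typeList]

theorem isTypeE7 : IsType chevE7 7 CoxeterMatrix.E₇ := by simp [IsType, typeList]

theorem isTypeE8 : IsType chevE8 8 CoxeterMatrix.E₈ := by simp [IsType, typeList]

theorem card_G2 : Nat.card CoxeterMatrix.G₂.Group = 12 := S1092.result (⟨2, CoxeterMatrix.G₂⟩, 12) (by simp)

theorem card_D4 : Nat.card coxeterD4.Group = 192 := S1092.result (⟨4, coxeterD4⟩, 192) (by simp)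

theorem card_F4 : Nat.card CoxeterMatrix.F₄.Group = 1152 := S1092.result (⟨4, CoxeterMatrix.F₄⟩, 1152) (by simp)

theorem card_E6 : Nat.card CoxeterMatrix.E₆.Group = 51840 := S1093.result (⟨6, CoxeterMatrix.E₆⟩, 51840) (by simp)

theorem card_E7 : Nat.card CoxeterMatrix.E₇.Group = 2903040 := S1093.result (⟨7, CoxeterMatrix.E₇⟩, 2903040) (by simp)

theorem card_E8 : Nat.card CoxeterMatrix.E₈.Group = 696729600 :=
  S1093.result (⟨8, CoxeterMatrix.E₈⟩, 696729600) (by simp)

theorem sb_G2 (h : X3) : SBCh chevG2 2 12 :=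
  sbch h isTypeG2 (ne_of_nroots (by decide)) (ne_of_nroots (by decide)) card_G2

theorem sb_F4 (h : X3) : SBCh chevF4 4 1152 :=
  sbch h isTypeF4 (ne_of_nroots (by decide)) (ne_of_nroots (by decide)) card_F4

theorem sb_E6 (h : X3) : SBCh chevE6 6 51840 :=
  sbch h isTypeE6 (ne_of_nroots (by decide)) (ne_of_nroots (by decide)) card_E6

theorem sb_E7 (h : X3) : SBCh chevE7 7 2903040 :=
  sbch h isTypeE7 (ne_of_nroots (by decide)) (ne_of_nroots (by decide)) card_E7

theorem sb_E8 (h : X3) : SBCh chevE8 8 696729600 :=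
  sbch h isTypeE8 (ne_of_nroots (by decide)) (ne_of_nroots (by decide)) card_E8

/-- `q` is a prime power if `|K| = q ^ n` -/
theorem primePow_of_card {K : Type} [Field K] [Fintype K] {q n : ℕ} (hn : n ≠ 0) (hK : Fintype.card K = q ^ n) :
    IsPrimePow q := by
  have h1 : IsPrimePow (q ^ n) := hK ▸ FiniteField.isPrimePow_card K
  exact (isPrimePow_pow_iff hn).1 h1

theorem sb_twE6 (h : X3) : SBTwE6 := by
  intro K _ _ q hK p _ _
  obtain ⟨m, -⟩ := mdata_twE6' (r := p) (primePow_of_card two_ne_zero hK) hK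
  exact sb_of_mdata h m card_E6

theorem sb_twD4 (h : X3) : SBTwD4 := by
  intro K _ _ q hK p _ _
  obtain ⟨m, -⟩ := mdata_twD4' (r := p) (primePow_of_card three_ne_zero hK) hK
  exact sb_of_mdata h m card_D4

end Cfsg.Agent.H316.Ab
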